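import Mathlib
import Cfsg.Agent.Base
import Cfsg.Agent.Lib.QT311.SB
import Cfsg.Agent.Lib.Push.Lc15
import Cfsg.Agent.Lib.EvenChar.Basic

/-! A common normal `2`-subgroup in a group of even characteristic. -/

set_option autoImplicit false
set_option linter.unusedSectionVars false
set_option linter.style.haveILetI false

namespace H92.Q3

open Subgroup H69 H68.Push H68B H59.MP Cfsg
open scoped commutatorElement Pointwise

universe u

section Local

variable {G : Type*} [Group G] [Finite G] {q : ℕ} {T M L P : Subgroup G}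

theorem ea_le {A : Subgroup G} (h : IsElementaryAbelian 2 A) : A ≤ 𝐂(A) := fun x hx y hy =>
  congrArg Subtype.val (h.1.is_comm.comm (⟨y, hy⟩ : A) ⟨x, hx⟩)

theorem sb_of (c : Cg 2 T M) (l : PU 2 q L 𝐁(2, T) M) : SB q 𝐁(2, T) 𝐑(2, L) 𝐖(2, 𝐑(2, L)) where
  WB := (c.W_le_QL l).trans (inf_le_left.trans l.Q_le)
  sq := fun w hw => by rw [← sq]; exact (W_ea _).2 w hw
  ab := ea_le (W_ea _)
  ex := fun e => let ⟨_, hw, h⟩ := c.exists_w l; h (e hw)
  cardB := by rw [c.inf_cW l]; exact l.card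
  cardW := by
    obtain ⟨F, _, _, _, ρ, ψ, e, n⟩ := c.natW l
    have := n.card_V'
    rwa [cm_bot, e] at this
  reg' := fun b hb h1 w hw e => c.reg' l hb (fun h2 => h1 (c.Q_le_cW l h2)) hw e
  reg := fun b hb w hw e => c.reg l hb hw e
  QQ := by rw [c.inf_cW l]; exact c.QQ l
  sqQ := by rw [c.inf_cW l]; exact fun u hu => c.sq_mem l hu
  core := fun P hP h1 h2 => by
    refine le_trans ?_ (c.Q_le_cW l)
    refine (inf_le_inf_left _ l.le).trans (inf_le_pCoreOf hP ?_)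
    rw [← c.sup_eq l]
    exact sup_le h1 h2

theorem W_le_of (c : Cg 2 T M) (l : PU 2 q L 𝐁(2, T) M) (h1 : P ≤ pCore 2 G) (h2 : 𝐑(2, L) ≤ 𝐍(P))
    (h3 : ¬ P ≤ 𝐂(𝐑(2, L))) : 𝐖(2, 𝐑(2, L)) ≤ P := by
  have x := c.cx l
  have e : 𝐐(2, 𝐑(2, L)) = 𝐖(2, 𝐑(2, L)) := ((c.b1_or l).resolve_right fun h => h.2 rfl).2
  have h4 : ⁅P, 𝐑(2, L)⁆ ≤ P := commutator_le_left_of_le_normalizer h2
  refine (x.W_le_of (((commutator_mono h1 le_rfl).trans x.comm_O).trans (e.le.trans (W_le_W0 _)))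
    (le_normalizer_commutator h2 le_normalizer) fun h5 => h3 (cent_symm ?_)).trans h4
  refine res_le_iff.2 fun g hg hc => H70.le_centralizer_singleton_iff.1
    (H70.le_centralizer_of_commutator_mem ((O_isP.to_le h1).to_le h4) hc
      (H70.le_centralizer_singleton_iff.2 (cent_symm h5 (mem_res hg hc))) fun u hu => ?_)
  exact commutator_mem_commutator hu (mem_res hg hc)

end Local

theorem common {G : Type u} [Group G] [Finite G] (hE : IsOfEvenCharacteristic G) (T : Sylow 2 G)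
    {M₀ H N R : Subgroup G} (hM : (T : Subgroup G) ≤ M₀) (hH : (T : Subgroup G) ≤ H) (hO : pCore 2 H ≠ ⊥)
    (n2 : ¬ H ≤ N) (n3 : ∀ X, (T : Subgroup G) ≤ X → H ≤ X ∨ X ⊓ H ≤ N)
    (hR : R ≠ ⊥) (hRT : R ≤ (T : Subgroup G)) (hRS : IsSylowIn 2 R (𝐑(2, H) ⊔ R)) (hRM : M₀ ≤ 𝐍(R)) :
    ∃ R₀ : Subgroup G, R₀ ≠ ⊥ ∧ R₀ ≤ R ∧ M₀ ⊔ H ≤ 𝐍(R₀) := by
  by_contra hcon
  have no : ∀ R₀ : Subgroup G, R₀ ≠ ⊥ → R₀ ≤ R → M₀ ≤ 𝐍(R₀) → ¬ H ≤ 𝐍(R₀) := fun R₀ h1 h2 h3 h4 =>
    hcon ⟨R₀, h1, h2, sup_le h3 h4⟩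
  have sH : IsSylowIn 2 (T : Subgroup G) H := isSylowIn_of_le T hH
  have n1 : (T : Subgroup G) ≤ N := ((n3 T le_rfl).resolve_left fun e =>
    no R hR le_rfl hRM (e.trans (hM.trans hRM))).trans' (le_inf le_rfl hH)
  set Y := 𝐑(2, H) ⊔ R with hY
  have YH : Y ≤ H := sup_le (res_le H) (hRT.trans hH)
  have TY : (T : Subgroup G) ≤ 𝐍(Y) :=
    H70.le_normalizer_sup (hH.trans (le_normalizer_res H)) (hM.trans hRM)
  have HY : H ≤ 𝐍(Y) := by
    conv_lhs => rw [← sH.res_sup]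
    exact sup_le (le_sup_left.trans le_normalizer) TY
  have cY : H70.CharP 2 Y := (H20.charP_of_evenChar hE T hH hO).of_normal YH HY
  have hι := Y.subtype_injective
  have eR : (R.subgroupOf Y).map Y.subtype = R := map_subgroupOf_eq_of_le le_sup_right
  have c : Cg 2 (R.subgroupOf Y) (N.subgroupOf Y) := by
    refine cg_of_le hRS.subgroupOf_top (H70.charP_iff.1 cY) ((cStar_le (H24.omegaOne_center_ne_bot
      hRS.subgroupOf_top.isP fun e => hR (by rw [← eR, e, Subgroup.map_bot]))).trans (iSup_le fun C => ?_))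
    have h1 : H24.IsCharIn (C.1.map Y.subtype) R := by
      have := H24.IsCharIn.map (f := Y.subtype) (by rw [ker_subtype, bot_inf_eq]) ⟨C.2.1, C.2.2.2⟩
      rwa [eR] at this
    have h2 := hRM.trans h1.normalizer_le
    have h3 := (n3 _ (hM.trans h2)).resolve_left
      (no _ (fun e => C.2.2.1 ((map_eq_bot_iff_of_injective _ hι).1 e)) h1.1 h2)
    intro g hg
    exact h3 ⟨le_normalizer_map _ ⟨g, hg, rfl⟩, YH g.2⟩
  obtain ⟨q, L, -, l⟩ := c.exists_pu (H := ⊤) le_top fun e => n2 (by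
    conv_lhs => rw [← sH.res_sup]
    exact sup_le (fun x hx => e (mem_top (⟨x, mem_sup_left hx⟩ : Y))) n1)
  have s := (sb_of c l).map hι
  rw [map_bau hι, eR] at s
  set K := (𝐑(2, L)).map Y.subtype with hK
  set W := (𝐖(2, 𝐑(2, L))).map Y.subtype with hW
  have KH : K ≤ H := (map_subtype_le _).trans YH
  have gen : ∀ X, (T : Subgroup G) ≤ X → K ≤ X → H ≤ X := fun X h1 h2 => (n3 X h1).resolve_right fun e =>
    l.not_res_le_M fun x hx => e ⟨h2 ⟨x, hx, rfl⟩, YH x.2⟩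
  have MB : M₀ ≤ 𝐍(𝐁(2, R)) := hRM.trans (normalizer_le_normalizer_bau R)
  by_cases hy : ∀ y ∈ M₀, W ^ᶜ y ≤ 𝐂(W)
  · have h1 : ncl W M₀ ≤ 𝐁(2, R) ⊓ 𝐂(W) := ncl_le_iff.2 fun y h => le_inf (s.cj (MB h)).WB (hy y h)
    refine no (ncl W M₀) (fun e => s.ex ((le_ncl W M₀).trans (e.le.trans bot_le)))
      (h1.trans (inf_le_left.trans (bau_le R))) (le_normalizer_ncl _ _)
      (gen _ (hM.trans (le_normalizer_ncl _ _)) (le_normalizer_of_commutator_le_left ?_))
    refine (commutator_mono h1 le_rfl).trans (le_trans ?_ (le_ncl W M₀))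
    rw [← eR, ← map_bau hι, hW, hK, ← map_inf_cent hι, ← map_commutator, c.inf_cW l]
    exact map_mono (c.QK l)
  push Not at hy
  obtain ⟨y, hy, a⟩ := hy
  have hV : W ≤ omegaOneCenter 2 (pCoreOf 2 Y) := by
    rw [pCoreOf, ← map_oc hι]
    exact map_mono (c.cx l).W_le_V
  obtain ⟨D, d1, d2, d3, d4, d5⟩ := s.main MB hM (fun y hy ⟨k, hk⟩ => by
      obtain ⟨g, hg, h⟩ := (isSylowIn_of_le T hM).exists_cj_le (H70.isPGroup_zpowers hk) (zpowers_le_of_mem hy)
      exact ⟨g, hg, h (cj_mem g (mem_zpowers y))⟩)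
    (fun r hr => (cj_le_of_mem_normalizer hV (le_normalizer_oc (le_normalizer_pCoreOf_of_le TY) hr)).trans
      ((ea_le (oc_ea _)).trans (centralizer_le hV))) hy a
  have DT : D ≤ (T : Subgroup G) := d1.trans ((bau_le R).trans hRT)
  have HD : H ≤ 𝐍(D) := gen _ d3 ((cent_symm d4).trans (centralizer_le_normalizer _))
  have cD : H70.CharP 2 𝐍(D) := H20.charP_of_evenChar hE T d3 (pCoreOf_ne_bot_iff.1 fun e => d2 (le_bot_iff.1
    (e ▸ H1.le_pCoreOf le_normalizer le_rfl (T.isPGroup'.to_le DT))))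
  set P := pCoreOf 2 𝐍(D) with hP
  have pP : IsPGroup 2 P := H1.isPGroup_pCoreOf _
  have nP : 𝐍(D) ≤ 𝐍(P) := H1.le_normalizer_pCoreOf _
  have PH : P ≤ H := (H1.pCoreOf_le_sylow T d3).trans hH
  have WP : W ≤ P := by
    haveI hn : (P.comap Y.subtype).Normal := normal_subgroupOf_of_le_normalizer (YH.trans (HD.trans nP))
    refine map_le_iff_le_comap.2 (W_le_of c l (H1.le_pCore pP.comap_subtype) (le_top.trans (normalizer_eq_top _).ge) fun e => ?_)
    refine l.not_res_le_M (res_le_iff.2 fun g hg hc => ?_)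
    have hc' : (orderOf (g : G)).Coprime 2 := by rwa [Subgroup.orderOf_coe]
    have gR : (g : G) ∈ 𝐑(2, H) := mem_res (YH g.2) hc'
    have : (g : G) = 1 := cD.eq_one (HD (YH g.2)) hc' (H70.le_centralizer_of_commutator_mem
      (D := P ⊓ Y) (pP.to_le inf_le_left) hc' (fun x hx => mem_centralizer_singleton_iff.2
        (congrArg Subtype.val (e (show (⟨x, hx.2⟩ : Y) ∈ P.subgroupOf Y from hx.1) g (mem_res hg hc))).symm)
      fun u hu => ⟨commutator_le_left_of_le_normalizer (HD.trans nP) (commutator_mem_commutator hu (YH g.2)),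
        mem_sup_left (commutator_le_right_of_le_normalizer (le_normalizer_res H)
          (commutator_mem_commutator (PH hu) gR))⟩)
    rw [show g = 1 from Subtype.ext this]
    exact one_mem _
  exact a (cent_symm ((le_inf WP s.WB).trans ((s.cj (MB hy)).core P pP
    (((cent_symm d5).trans (centralizer_le_normalizer _)).trans nP)
    (((bau_le R).trans hRT).trans (d3.trans nP)))))

end H92.Q3
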